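import Mathlib.RingTheory.Smooth.StandardSmoothOfFree
import Mathlib.RingTheory.Smooth.Kaehler
import Mathlib.RingTheory.Etale.Basic
import Mathlib.RingTheory.Unramified.Basic
import Mathlib.RingTheory.TensorProduct.Quotient

/-!
# Étale slices of smooth algebras through an unramified closed subscheme
-/

set_option autoImplicit false

universe u

open KaehlerDifferential TensorProduct Module

namespace Groth.Agent.EtSlice12

variable {A B : Type u} [CommRing A] [CommRing B] [Algebra A B]

theorem span_D_sup_smul (I : Ideal B) [Algebra.FormallyUnramified A (B ⧸ I)] :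
    Submodule.span B (Set.range fun f : I => D A B f) ⊔ I • ⊤ = ⊤ := by
  have hsurj : Function.Surjective (algebraMap B (B ⧸ I)) := Ideal.Quotient.mk_surjective
  rw [eq_top_iff]
  intro ω _
  have h0 : mapBaseChange A B (B ⧸ I) ((1 : B ⧸ I) ⊗ₜ[B] ω) = 0 := Subsingleton.elim _ _
  obtain ⟨c, hc⟩ := ((exact_kerCotangentToTensor_mapBaseChange A B (B ⧸ I) hsurj) _).1 h0
  obtain ⟨⟨x, hx⟩, rfl⟩ := Ideal.toCotangent_surjective _ c
  rw [kerCotangentToTensor_toCotangent] at hc
  have hx' : x ∈ I := by simpa [Ideal.Quotient.eq_zero_iff_mem] using hx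
  have h1 : (1 : B ⧸ I) ⊗ₜ[B] (ω - D A B x) = 0 := by rw [tmul_sub, hc, sub_self]
  have h2 : ω - D A B x ∈ I • (⊤ : Submodule B (Ω[B⁄A])) := by
    have h3 := congrArg (TensorProduct.quotTensorEquivQuotSMul (Ω[B⁄A]) I) h1
    rw [map_zero, ← map_one (Ideal.Quotient.mk I), TensorProduct.quotTensorEquivQuotSMul_mk_tmul,
      one_smul] at h3
    exact (Submodule.Quotient.mk_eq_zero _).1 h3
  rw [← sub_add_cancel ω (D A B x)]
  exact add_mem (Submodule.mem_sup_right h2)
    (Submodule.mem_sup_left (Submodule.subset_span ⟨⟨x, hx'⟩, rfl⟩))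

/-- a smooth algebra in which the differentials of some functions form a basis is étale after dividing by them -/
theorem etale_quotient_of_basis {C : Type u} [CommRing C] [Algebra A C] [Algebra.Smooth A C] {κ : Type u} [Finite κ]
    (f : κ → C) (b : Basis κ C (Ω[C⁄A])) (hb : ∀ i, b i = D A C (f i)) :
    Algebra.Etale A (C ⧸ Ideal.span (Set.range f)) := by
  classical
  set J := Ideal.span (Set.range f)
  have hsurj : Function.Surjective (algebraMap C (C ⧸ J)) := Ideal.Quotient.mk_surjective
  have hker : RingHom.ker (algebraMap C (C ⧸ J)) = J := Ideal.mk_ker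
  have hf : ∀ i, f i ∈ RingHom.ker (algebraMap C (C ⧸ J)) := fun i => by
    rw [hker]; exact Ideal.subset_span ⟨i, rfl⟩
  let L : Ω[C⁄A] →ₗ[C] (RingHom.ker (algebraMap C (C ⧸ J))).Cotangent :=
    b.constr C fun i => Ideal.toCotangent _ ⟨f i, hf i⟩
  have hkill : ∀ r ∈ J, ∀ c : (RingHom.ker (algebraMap C (C ⧸ J))).Cotangent, r • c = 0 := fun r hr c =>
    Ideal.Cotangent.smul_eq_zero_of_mem (hker.symm ▸ hr) c
  have hLJ : J • (⊤ : Submodule C (Ω[C⁄A])) ≤ LinearMap.ker L := by
    rw [Submodule.smul_le]
    intro r hr m _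
    rw [LinearMap.mem_ker, map_smul, hkill r hr]
  let l := (J • (⊤ : Submodule C (Ω[C⁄A]))).liftQ L hLJ ∘ₗ
    (TensorProduct.quotTensorEquivQuotSMul (Ω[C⁄A]) J).toLinearMap
  have hl : ∀ m, l ((1 : C ⧸ J) ⊗ₜ[C] m) = L m := fun m => by
    simp only [l, LinearMap.comp_apply, LinearEquiv.coe_coe]
    rw [← map_one (Ideal.Quotient.mk J), TensorProduct.quotTensorEquivQuotSMul_mk_tmul, one_smul]
    rfl
  have hLD : ∀ x, ∀ hx : x ∈ J, L (D A C x) = Ideal.toCotangent _ ⟨x, hker.symm ▸ hx⟩ := by
    intro x hx
    induction hx using Submodule.span_induction with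
    | mem y hy =>
      obtain ⟨i, rfl⟩ := hy
      rw [← hb i]
      exact b.constr_basis C _ i
    | zero => rw [map_zero, map_zero]; exact (map_zero _).symm
    | add y z hy hz ihy ihz => rw [map_add, map_add, ihy, ihz, ← map_add]; rfl
    | smul r y hy ihy =>
      show L (D A C (r * y)) = _
      rw [Derivation.leibniz, map_add, map_smul, map_smul, ihy, hkill y hy, add_zero, ← map_smul]
      rfl
  have hsm : Algebra.FormallySmooth A (C ⧸ J) := by
    refine (Algebra.FormallySmooth.iff_split_injection hsurj).2 ⟨l, LinearMap.ext fun c => ?_⟩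
    obtain ⟨⟨x, hx⟩, rfl⟩ := Ideal.toCotangent_surjective _ c
    rw [LinearMap.comp_apply, kerCotangentToTensor_toCotangent, hl, LinearMap.id_apply]
    exact hLD x (hker ▸ hx)
  have : Algebra.FormallyUnramified A (C ⧸ J) := by
    refine ⟨⟨fun a a' => ?_⟩⟩
    suffices ∀ t : (C ⧸ J) ⊗[C] Ω[C⁄A], mapBaseChange A C (C ⧸ J) t = 0 by
      obtain ⟨t, rfl⟩ := mapBaseChange_surjective A C (C ⧸ J) hsurj a
      obtain ⟨t', rfl⟩ := mapBaseChange_surjective A C (C ⧸ J) hsurj a'
      rw [this, this]
    intro t
    induction t using TensorProduct.induction_on with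
    | zero => exact map_zero _
    | add y z hy hz => rw [map_add, hy, hz, add_zero]
    | tmul c m =>
      have hm : m ∈ Submodule.span C (Set.range b) := b.span_eq ▸ Submodule.mem_top
      rw [mapBaseChange_tmul]
      suffices KaehlerDifferential.map A A C (C ⧸ J) m = 0 by rw [this, smul_zero]
      induction hm using Submodule.span_induction with
      | mem y hy =>
        obtain ⟨i, rfl⟩ := hy
        rw [hb, map_D, show algebraMap C (C ⧸ J) (f i) = 0 from hf i, map_zero]
      | zero => exact map_zero _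
      | add y z _ _ hy hz => rw [map_add, hy, hz, add_zero]
      | smul r y _ hy => rw [map_smul, hy, smul_zero]
  have : Algebra.FinitePresentation A (C ⧸ J) :=
    Algebra.FinitePresentation.quotient (Submodule.fg_span (Set.finite_range f))
  exact Algebra.Etale.mk (formallyEtale := .of_formallyUnramified_and_formallySmooth)

/-- the étale slice -/
theorem exists_slice [Algebra.Smooth A B] (I : Ideal B) [Algebra.FormallyUnramified A (B ⧸ I)]
    (p : Ideal B) [p.IsPrime] (hIp : I ≤ p) :
    ∃ g ∉ p, ∃ J : Ideal (Localization.Away g), J ≤ I.map (algebraMap B (Localization.Away g)) ∧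
      Algebra.Etale A (Localization.Away g ⧸ J) := by
  classical
  haveI : Algebra.FormallySmooth A (Localization.AtPrime p) :=
    .comp A B (Localization.AtPrime p)
  haveI : Algebra.EssFiniteType A (Localization.AtPrime p) :=
    Algebra.EssFiniteType.comp A B (Localization.AtPrime p)
  let l₂ : Ω[B⁄A] →ₗ[B] Ω[Localization.AtPrime p⁄A] := KaehlerDifferential.map A A B (Localization.AtPrime p)
  haveI : Module.FinitePresentation (Localization.AtPrime p) (Ω[Localization.AtPrime p⁄A]) :=
    Module.finitePresentation_of_projective _ _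
  let v : I → Ω[Localization.AtPrime p⁄A] := fun f => D A _ (algebraMap B (Localization.AtPrime p) f)
  have hv : Submodule.span (Localization.AtPrime p) (Set.range v) = ⊤ := by
    refine top_unique (Submodule.le_of_le_smul_of_le_jacobson_bot Module.Finite.fg_top
      (IsLocalRing.maximalIdeal_le_jacobson _) ?_)
    refine (span_range_map_derivation_of_isLocalization A B (Localization.AtPrime p) p.primeCompl).ge.trans
      (Submodule.span_le.2 ?_)
    rintro _ ⟨x, rfl⟩
    have key : ∀ ω : Ω[B⁄A], l₂ ω ∈ Submodule.span (Localization.AtPrime p) (Set.range v) ⊔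
        IsLocalRing.maximalIdeal (Localization.AtPrime p) • ⊤ := by
      intro ω
      have hω : ω ∈ Submodule.span B (Set.range fun f : I => D A B f) ⊔ I • ⊤ :=
        (span_D_sup_smul (A := A) I).symm ▸ Submodule.mem_top
      obtain ⟨y, hy, z, hz, rfl⟩ := Submodule.mem_sup.1 hω
      rw [map_add]
      refine add_mem (Submodule.mem_sup_left ?_) (Submodule.mem_sup_right ?_)
      · clear hω
        induction hy using Submodule.span_induction with
        | mem y hy =>
          obtain ⟨i, rfl⟩ := hy
          exact Submodule.subset_span ⟨i, (map_D _ _ _ _ _).symm⟩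
        | zero => rw [map_zero]; exact zero_mem _
        | add y z _ _ hy hz => rw [map_add]; exact add_mem hy hz
        | smul r y _ hy => rw [map_smul, ← algebraMap_smul (Localization.AtPrime p) r (l₂ y)]; exact Submodule.smul_mem _ _ hy
      · refine Submodule.smul_induction_on hz (fun r hr n _ => ?_) fun a b ha hb => ?_
        · rw [map_smul, ← algebraMap_smul (Localization.AtPrime p) r (l₂ n)]
          exact Submodule.smul_mem_smul
            ((IsLocalization.AtPrime.to_map_mem_maximal_iff _ p r).2 (hIp hr)) Submodule.mem_top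
        · rw [map_add]; exact add_mem ha hb
    exact key _
  obtain ⟨κ, a, b, hb⟩ := Module.exists_basis_of_span_of_flat _ hv
  let e : (κ →₀ B) →ₗ[B] Ω[B⁄A] := Finsupp.linearCombination B fun i : κ => D A B (a i)
  let l₁ : (κ →₀ B) →ₗ[B] (κ →₀ Localization.AtPrime p) :=
    Finsupp.mapRange.linearMap (Algebra.linearMap B (Localization.AtPrime p))
  let eₚ : (κ →₀ Localization.AtPrime p) →ₗ[Localization.AtPrime p] Ω[Localization.AtPrime p⁄A] :=
    IsLocalizedModule.mapExtendScalars p.primeCompl l₁ l₂ (Localization.AtPrime p) e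
  have : eₚ = b.repr.symm := by
    ext i
    trans IsLocalizedModule.map p.primeCompl l₁ l₂ e <| l₁ <| Finsupp.single i 1
    · simp [eₚ, -IsLocalizedModule.map_apply, l₁]
    · simp [l₂, e, hb, v]
  have heₚ : Function.Bijective eₚ := this ▸ b.repr.symm.bijective
  have : Finite κ := Module.Finite.finite_basis b
  obtain ⟨g, hg, h⟩ := Module.FinitePresentation.exists_notMem_bijective e p l₁ l₂ heₚ
  let l₁ₜ : (κ →₀ B) →ₗ[B] (κ →₀ Localization.Away g) :=
    Finsupp.mapRange.linearMap (Algebra.linearMap B _)
  let l₂ₜ : Ω[B⁄A] →ₗ[B] Ω[Localization.Away g⁄A] := KaehlerDifferential.map A A B (Localization.Away g)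
  rw [← IsLocalizedModule.map_bijective_iff_localizedModuleMap_bijective l₁ₜ l₂ₜ] at h
  let eₜ' : (κ →₀ Localization.Away g) →ₗ[Localization.Away g] Ω[Localization.Away g⁄A] :=
    IsLocalizedModule.mapExtendScalars (Submonoid.powers g) l₁ₜ l₂ₜ (Localization.Away g) e
  haveI : Algebra.Smooth A (Localization.Away g) := Algebra.Smooth.comp A B (Localization.Away g)
  refine ⟨g, hg, Ideal.span (Set.range fun i => algebraMap B (Localization.Away g) (a i)), ?_,
    etale_quotient_of_basis _ (.ofRepr (LinearEquiv.ofBijective eₜ' h).symm) fun i => ?_⟩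
  · rw [Ideal.span_le]
    rintro _ ⟨i, rfl⟩
    exact Ideal.mem_map_of_mem _ (a i).2
  · simp +zetaDelta [IsLocalizedModule.map_linearCombination]

end Groth.Agent.EtSlice12
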